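import Mathlib

/-! Descent of formally unramified finite type algebras to finite type ℤ-algebras. -/

namespace Groth.Agent.UnramModel1

open MvPolynomial TensorProduct

universe u

lemma sum_pderiv_smul {R : Type*} [CommRing R] {σ : Type*} [Fintype σ] {B M : Type*} [CommRing B] [Algebra R B]
    [AddCommGroup M] [Module R M] [Module B M] (f : MvPolynomial σ R →ₐ[R] B) (D : Derivation R B M)
    (p : MvPolynomial σ R) :
    D (f p) = ∑ l, f (pderiv l p) • D (f (X l)) := by
  classical
  induction p using MvPolynomial.induction_on with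
  | C a =>
    rw [← MvPolynomial.algebraMap_eq, AlgHom.commutes, Derivation.map_algebraMap]
    refine (Finset.sum_eq_zero fun l _ => ?_).symm
    rw [show pderiv l ((algebraMap R (MvPolynomial σ R)) a) = 0 from Derivation.map_algebraMap _ _, map_zero, zero_smul]
  | add p q hp hq => simp [map_add, hp, hq, Finset.sum_add_distrib, add_smul]
  | mul_X p j hp =>
    rw [map_mul, Derivation.leibniz, hp, Finset.smul_sum]
    simp only [smul_smul, pderiv_mul, map_add, map_mul, add_smul, Finset.sum_add_distrib]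
    rw [add_comm]
    congr 1
    · exact Finset.sum_congr rfl fun l _ => by rw [mul_comm]
    · rw [Finset.sum_eq_single j]
      · rw [pderiv_X_self, map_one, mul_one]
      · intro l _ hl; rw [pderiv_X_of_ne (Ne.symm hl)]; simp
      · simp

lemma exists_witness {R : Type*} [CommRing R] {S : Type*} [CommRing S] [Algebra R S]
    [Algebra.FormallyUnramified R S] {σ : Type*} [Fintype σ] [DecidableEq σ]
    (π : MvPolynomial σ R →ₐ[R] S) (hπ : Function.Surjective π) :
    ∃ c : σ → (MvPolynomial σ R →₀ MvPolynomial σ R),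
      (∀ i, ∀ f ∈ (c i).support, π f = 0) ∧
      ∀ i l, π ((Pi.single i 1 : σ → MvPolynomial σ R) l - (c i).sum fun f a => a * pderiv l f) = 0 := by
  classical
  let gr : MvPolynomial σ R →ₗ[R] (σ → S) :=
    LinearMap.pi fun l => π.toLinearMap ∘ₗ ((pderiv l : Derivation R (MvPolynomial σ R) (MvPolynomial σ R)) : MvPolynomial σ R →ₗ[R] MvPolynomial σ R)
  have gr_apply : ∀ p l, gr p l = π (pderiv l p) := fun p l => rfl
  let N : Submodule S (σ → S) := Submodule.span S (gr '' {f | π f = 0})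
  let s := Function.surjInv hπ
  have hs : ∀ y, π (s y) = y := Function.surjInv_eq hπ
  have key : ∀ p y, π p = y → N.mkQ (gr p) = N.mkQ (gr (s y)) := fun p y h => by
    rw [Submodule.mkQ_apply, Submodule.mkQ_apply, Submodule.Quotient.eq, ← map_sub]
    exact Submodule.subset_span ⟨p - s y, by simp [hs, h], rfl⟩
  have grmul : ∀ p q, gr (p * q) = π p • gr q + π q • gr p := fun p q => by
    ext l; simp [gr_apply, pderiv_mul, mul_comm, add_comm]
  let L : S →ₗ[R] (σ → S) ⧸ N :=
    { toFun := fun y => N.mkQ (gr (s y))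
      map_add' := fun a b => by
        rw [← key (s a + s b) (a + b) (by simp [hs]), map_add, map_add]
      map_smul' := fun r a => by
        rw [← key (r • s a) (r • a) (by simp [hs]), map_smul, RingHom.id_apply]
        exact LinearMap.map_smul_of_tower _ _ _ }
  let D : Derivation R S ((σ → S) ⧸ N) := Derivation.mk' L fun a b => by
    show N.mkQ (gr (s (a * b))) = a • N.mkQ (gr (s b)) + b • N.mkQ (gr (s a))
    rw [← key (s a * s b) (a * b) (by simp [hs]), grmul, hs, hs, map_add, map_smul, map_smul]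
  have hD : D = 0 := by
    rw [← Derivation.liftKaehlerDifferential_comp D,
      show D.liftKaehlerDifferential = 0 from LinearMap.ext fun x => by rw [Subsingleton.elim x 0, map_zero]; rfl]
    ext; simp
  have hmem : ∀ i, gr (X i) ∈ N := fun i => by
    have h0 : N.mkQ (gr (s (π (X i)))) = 0 := by
      show D (π (X i)) = 0
      rw [hD]; rfl
    rw [← key (X i) _ rfl] at h0
    exact (Submodule.Quotient.mk_eq_zero N).1 h0
  have hex : ∀ i, ∃ c : MvPolynomial σ R →₀ MvPolynomial σ R, (∀ f ∈ c.support, π f = 0) ∧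
      ∀ l, π ((Pi.single i 1 : σ → MvPolynomial σ R) l - c.sum fun f a => a * pderiv l f) = 0 := fun i => by
    obtain ⟨c, hc, hsum⟩ := (Finsupp.mem_span_image_iff_linearCombination S).1 (hmem i)
    let s0 : S → MvPolynomial σ R := fun y => if y = 0 then 0 else s y
    have hs0 : ∀ y, π (s0 y) = y := fun y => by
      by_cases h : y = 0 <;> simp [s0, h, hs]
    refine ⟨c.mapRange s0 (by simp [s0]), fun f hf => hc (Finsupp.support_mapRange hf), fun l => ?_⟩
    rw [map_sub, sub_eq_zero, Finsupp.sum_mapRange_index (by simp), Finsupp.sum, map_sum]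
    have := congrFun hsum l
    rw [Finsupp.linearCombination_apply, Finsupp.sum, Finset.sum_apply, gr_apply] at this
    rw [pderiv_X] at this
    simp only [map_mul, hs0]
    by_cases h : i = l
    · subst h; simpa [gr_apply] using this.symm
    · simpa [gr_apply, Pi.single_eq_of_ne h, Pi.single_eq_of_ne' h] using this.symm
  choose c h1 h2 using hex
  exact ⟨c, h1, h2⟩

lemma derivation_X_eq_zero {R : Type*} [CommRing R] {σ : Type*} [Fintype σ] [DecidableEq σ]
    {B M : Type*} [CommRing B] [Algebra R B] [AddCommGroup M] [Module R M] [Module B M]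
    (f : MvPolynomial σ R →ₐ[R] B) (D : Derivation R B M) {F : Set (MvPolynomial σ R)}
    (hF : ∀ p ∈ F, f p = 0) (i : σ) (a : F →₀ MvPolynomial σ R)
    (e : ∀ l, f ((Pi.single i 1 : σ → MvPolynomial σ R) l) =
        f (a.sum fun p b => b * pderiv l (p : MvPolynomial σ R))) :
    D (f (X i)) = 0 := by
  have h1 : D (f (X i)) = ∑ l, f ((Pi.single i 1 : σ → MvPolynomial σ R) l) • D (f (X l)) := by
    rw [Finset.sum_eq_single i]
    · rw [Pi.single_eq_same, map_one, one_smul]
    · intro l _ hl; rw [Pi.single_eq_of_ne hl, map_zero, zero_smul]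
    · simp
  rw [h1]
  simp only [e, Finsupp.sum, map_sum, map_mul, Finset.sum_smul, mul_smul]
  rw [Finset.sum_comm]
  refine Finset.sum_eq_zero fun p _ => ?_
  rw [← Finset.smul_sum, ← sum_pderiv_smul f D, hF _ p.2, map_zero, smul_zero]

lemma formallyUnramified_quotient {R : Type*} [CommRing R] {σ : Type*} [Fintype σ] [DecidableEq σ]
    (F : Set (MvPolynomial σ R))
    (h : ∀ i, ∃ a : F →₀ MvPolynomial σ R, ∀ l,
      (Pi.single i 1 : σ → MvPolynomial σ R) l - (a.sum fun f b => b * pderiv l (f : MvPolynomial σ R)) ∈ Ideal.span F) :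
    Algebra.FormallyUnramified R (MvPolynomial σ R ⧸ Ideal.span F) := by
  constructor
  let q := Ideal.Quotient.mkₐ R (Ideal.span F)
  let D := KaehlerDifferential.D R (MvPolynomial σ R ⧸ Ideal.span F)
  have hX : ∀ i, D (q (X i)) = 0 := fun i => by
    obtain ⟨a, ha⟩ := h i
    exact derivation_X_eq_zero q D
      (fun p hp => Ideal.Quotient.eq_zero_iff_mem.2 (Ideal.subset_span hp)) i a
      (fun l => Ideal.Quotient.eq.2 (ha l))
  have htop := KaehlerDifferential.span_range_derivation R (MvPolynomial σ R ⧸ Ideal.span F)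
  have h0 : Set.range D ⊆ {0} := by
    rintro _ ⟨y, rfl⟩
    obtain ⟨p, rfl⟩ := Ideal.Quotient.mk_surjective y
    show D (q p) = 0
    rw [sum_pderiv_smul q D]; simp [hX]
  have hbot : (⊤ : Submodule (MvPolynomial σ R ⧸ Ideal.span F) _) ≤ ⊥ :=
    htop ▸ Submodule.span_le.2 (by simpa using h0)
  exact subsingleton_of_forall_eq 0 fun x => (Submodule.mem_bot _).1 (hbot Submodule.mem_top)

lemma exists_lift_coeffs {R : Type u} [CommRing R] {σ : Type*} (R₀ : Subalgebra ℤ R) (p : MvPolynomial σ R)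
    (h : (p.coeffs : Set R) ⊆ R₀) : ∃ q : MvPolynomial σ R₀, MvPolynomial.map (algebraMap R₀ R) q = p := by
  have h' : p ∈ Set.range (MvPolynomial.map (σ := σ) (algebraMap R₀ R)) := by
    rw [MvPolynomial.mem_range_map_iff_coeffs_subset]
    exact fun x hx => ⟨⟨x, h hx⟩, rfl⟩
  exact h'

lemma exists_model_hom {R : Type u} [CommRing R] (R₀ : Type u) [CommRing R₀] [Algebra R₀ R]
    {S : Type u} [CommRing S] [Algebra R S] [Algebra R₀ S] [IsScalarTower R₀ R S] {n : ℕ}
    (π : MvPolynomial (Fin n) R →ₐ[R] S) (hπ : Function.Surjective π) (F₀ : Set (MvPolynomial (Fin n) R₀))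
    (hF : ∀ q ∈ F₀, π (MvPolynomial.map (algebraMap R₀ R) q) = 0) :
    ∃ ψ : R ⊗[R₀] (MvPolynomial (Fin n) R₀ ⧸ Ideal.span F₀) →ₐ[R] S, Function.Surjective ψ ∧
      (RingHom.ker π ≤ Ideal.span (MvPolynomial.map (algebraMap R₀ R) '' F₀) → Function.Bijective ψ) := by
  let v : Fin n → S := fun i => π (X i)
  have hv : ∀ q : MvPolynomial (Fin n) R₀, aeval v q = π (MvPolynomial.map (algebraMap R₀ R) q) := fun q => by
    rw [← MvPolynomial.aeval_map_algebraMap R]
    exact (congrArg (fun h => h (MvPolynomial.map (algebraMap R₀ R) q)) (MvPolynomial.aeval_unique π)).symm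
  let ω : (MvPolynomial (Fin n) R₀ ⧸ Ideal.span F₀) →ₐ[R₀] S :=
    Ideal.Quotient.liftₐ (Ideal.span F₀) (aeval v) (fun a ha => by
      refine (Ideal.span_le (I := RingHom.ker (aeval (R := R₀) v))).2 ?_ ha
      intro q hq
      show aeval v q = 0
      rw [hv]; exact hF q hq)
  let ψ : R ⊗[R₀] (MvPolynomial (Fin n) R₀ ⧸ Ideal.span F₀) →ₐ[R] S :=
    Algebra.TensorProduct.lift (Algebra.ofId R S) ω fun _ _ => Commute.all _ _
  let x : Fin n → R ⊗[R₀] (MvPolynomial (Fin n) R₀ ⧸ Ideal.span F₀) := fun i =>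
    1 ⊗ₜ Ideal.Quotient.mk _ (X i)
  have hψx : ψ.comp (aeval x) = π := MvPolynomial.algHom_ext fun i => by
    simp [ψ, x, ω, v, AlgHom.comp_apply]
  have hsurj : Function.Surjective ψ := by
    intro y
    obtain ⟨p, rfl⟩ := hπ y
    exact ⟨aeval x p, AlgHom.congr_fun hψx p⟩
  refine ⟨ψ, hsurj, fun hker => ⟨?_, hsurj⟩⟩
  have hq : ∀ q : MvPolynomial (Fin n) R₀,
      aeval x (MvPolynomial.map (algebraMap R₀ R) q) = 1 ⊗ₜ Ideal.Quotient.mk _ q := fun q => by
    rw [MvPolynomial.aeval_map_algebraMap]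
    exact AlgHom.congr_fun (show aeval x = (Algebra.TensorProduct.includeRight :
      (MvPolynomial (Fin n) R₀ ⧸ Ideal.span F₀) →ₐ[R₀] R ⊗[R₀] _).comp (Ideal.Quotient.mkₐ R₀ _) from
        MvPolynomial.algHom_ext fun i => by simp [x]) q
  have hzero : ∀ p, RingHom.ker π ≤ Ideal.span (MvPolynomial.map (algebraMap R₀ R) '' F₀) →
      π p = 0 → aeval x p = 0 := fun p hker hp => by
    refine (Ideal.span_le (I := RingHom.ker (aeval (R := R) x))).2 ?_ (hker hp)
    rintro _ ⟨q, hq0, rfl⟩
    show aeval x _ = 0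
    rw [hq, Ideal.Quotient.eq_zero_iff_mem.2 (Ideal.subset_span hq0), TensorProduct.tmul_zero]
  have hxs : Function.Surjective (aeval (R := R) x) := by
    intro t
    induction t using TensorProduct.induction_on with
    | zero => exact ⟨0, map_zero _⟩
    | tmul r s =>
      obtain ⟨q, rfl⟩ := Ideal.Quotient.mk_surjective s
      exact ⟨r • MvPolynomial.map (algebraMap R₀ R) q, by
        rw [map_smul, hq, TensorProduct.smul_tmul', smul_eq_mul, mul_one]⟩
    | add a b ha hb =>
      obtain ⟨p, rfl⟩ := ha; obtain ⟨p', rfl⟩ := hb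
      exact ⟨p + p', map_add _ _ _⟩
  intro a b h
  obtain ⟨p, rfl⟩ := hxs a; obtain ⟨p', rfl⟩ := hxs b
  have e := AlgHom.congr_fun hψx
  simp only [AlgHom.comp_apply] at e
  rw [e, e, ← sub_eq_zero, ← map_sub] at h
  rw [← sub_eq_zero, ← map_sub, hzero _ hker h]

theorem exists_model (R : Type u) [CommRing R] (S : Type u) [CommRing S] [Algebra R S]
    [Algebra.FormallyUnramified R S] {n : ℕ} (π : MvPolynomial (Fin n) R →ₐ[R] S) (hπ : Function.Surjective π)
    (extra : Finset (MvPolynomial (Fin n) R)) (hextra : ∀ f ∈ extra, π f = 0) :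
    ∃ (R₀ : Subalgebra ℤ R) (F₀ : Set (MvPolynomial (Fin n) R₀)),
      R₀.FG ∧ F₀.Finite ∧
      (Algebra.FormallyUnramified R₀ (MvPolynomial (Fin n) R₀ ⧸ Ideal.span F₀)) ∧
      ∃ ψ : R ⊗[R₀] (MvPolynomial (Fin n) R₀ ⧸ Ideal.span F₀) →ₐ[R] S, Function.Surjective ψ ∧
        (RingHom.ker π ≤ Ideal.span extra → Function.Bijective ψ) := by
  classical
  obtain ⟨c, hc, hw⟩ := exists_witness π hπ
  let g : Fin n → Fin n → MvPolynomial (Fin n) R := fun i l =>
    (Pi.single i 1 : Fin n → MvPolynomial (Fin n) R) l - (c i).sum fun f a => a * pderiv l f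
  let F : Finset (MvPolynomial (Fin n) R) :=
    extra ∪ Finset.univ.biUnion (fun i => (c i).support) ∪ Finset.univ.image (fun p : Fin n × Fin n => g p.1 p.2)
  have hF : ∀ f ∈ F, π f = 0 := by
    intro f hf
    simp only [F, Finset.mem_union, Finset.mem_biUnion, Finset.mem_univ, true_and, Finset.mem_image] at hf
    rcases hf with (hf | ⟨i, hi⟩) | ⟨⟨i, l⟩, rfl⟩
    exacts [hextra f hf, hc i f hi, hw i l]
  let P : Finset (MvPolynomial (Fin n) R) := F ∪ Finset.univ.biUnion (fun i => (c i).support.image (c i))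
  let R₀ : Subalgebra ℤ R := Algebra.adjoin ℤ ↑(P.biUnion fun p => p.coeffs)
  have hco : ∀ p ∈ P, (p.coeffs : Set R) ⊆ R₀ := fun p hp x hx =>
    Algebra.subset_adjoin (Finset.mem_biUnion.2 ⟨p, hp, hx⟩)
  have hex : ∀ p : P, ∃ q : MvPolynomial (Fin n) R₀, MvPolynomial.map (algebraMap R₀ R) q = p :=
    fun p => exists_lift_coeffs R₀ p (hco _ p.2)
  choose L hL using hex
  have hinj : Function.Injective (MvPolynomial.map (σ := Fin n) (algebraMap R₀ R)) :=
    MvPolynomial.map_injective _ Subtype.val_injective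
  let F₀ : Set (MvPolynomial (Fin n) R₀) := Set.range fun f : F => L ⟨f, Finset.mem_union_left _ f.2⟩
  have hmapF : ∀ q ∈ F₀, MvPolynomial.map (algebraMap R₀ R) q ∈ F := by
    rintro q ⟨f, rfl⟩; rw [hL]; exact f.2
  have hF0 : ∀ f ∈ F, ∃ q ∈ F₀, MvPolynomial.map (algebraMap R₀ R) q = f := fun f hf =>
    ⟨_, ⟨⟨f, hf⟩, rfl⟩, hL _⟩
  have hunr : Algebra.FormallyUnramified R₀ (MvPolynomial (Fin n) R₀ ⧸ Ideal.span F₀) := by
    refine formallyUnramified_quotient F₀ fun i => ?_
    have hs : ∀ f : (c i).support, ∃ q : F₀ × MvPolynomial (Fin n) R₀,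
        MvPolynomial.map (algebraMap R₀ R) (q.1 : MvPolynomial (Fin n) R₀) = f ∧
          MvPolynomial.map (algebraMap R₀ R) q.2 = c i f := fun f => by
      obtain ⟨q, hq, hq'⟩ := hF0 f (by
        simp only [F, Finset.mem_union, Finset.mem_biUnion, Finset.mem_univ, true_and]
        exact Or.inl (Or.inr ⟨i, f.2⟩))
      exact ⟨(⟨q, hq⟩, L ⟨c i f, Finset.mem_union_right _ (Finset.mem_biUnion.2 ⟨i, Finset.mem_univ _,
        Finset.mem_image.2 ⟨f, f.2, rfl⟩⟩)⟩), hq', hL _⟩
    choose q hq1 hq2 using hs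
    refine ⟨∑ f, Finsupp.single (q f).1 (q f).2, fun l => ?_⟩
    obtain ⟨g₀, hg₀, hg⟩ := hF0 (g i l) (Finset.mem_union_right _ (Finset.mem_image.2 ⟨(i, l), Finset.mem_univ _, rfl⟩))
    suffices (Pi.single i 1 : Fin n → MvPolynomial (Fin n) R₀) l -
        (∑ f, Finsupp.single (q f).1 (q f).2).sum (fun f b => b * pderiv l (f : MvPolynomial (Fin n) R₀)) = g₀ by
      rw [this]; exact Ideal.subset_span hg₀
    refine hinj ?_
    have e : (∑ f, Finsupp.single (q f).1 (q f).2).sum (fun f b => b * pderiv l (f : MvPolynomial (Fin n) R₀)) =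
        ∑ f, (Finsupp.single (q f).1 (q f).2).sum (fun f b => b * pderiv l (f : MvPolynomial (Fin n) R₀)) := by
      refine (Finsupp.sum_finsetSum_index ?_ ?_).symm
      · exact fun _ => zero_mul _
      · exact fun _ _ _ => add_mul _ _ _
    rw [map_sub, hg, e, map_sum]
    simp only [g]
    congr 1
    · by_cases h : i = l
      · subst h; simp
      · simp [Pi.single_eq_of_ne' h]
    · rw [Finsupp.sum, ← Finset.sum_attach (c i).support, Finset.univ_eq_attach]
      refine Finset.sum_congr rfl fun f _ => ?_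
      rw [Finsupp.sum_single_index, map_mul, hq2, ← MvPolynomial.pderiv_map, hq1]
      exact zero_mul _
  refine ⟨R₀, F₀, ⟨_, rfl⟩, Set.finite_range _, hunr, ?_⟩
  obtain ⟨ψ, h1, h2⟩ := exists_model_hom R₀ π hπ F₀ (fun q hq => hF _ (hmapF q hq))
  refine ⟨ψ, h1, fun hker => h2 (hker.trans (Ideal.span_le.2 fun f hf => ?_))⟩
  obtain ⟨q, hq, rfl⟩ := hF0 f (Finset.mem_union_left _ (Finset.mem_union_left _ hf))
  exact Ideal.subset_span ⟨q, hq, rfl⟩

end Groth.Agent.UnramModel1
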